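import Cfsg.Agent.H69.PspSquare.Frames
import Cfsg.Agent.Symplectic.Center
import Mathlib.FieldTheory.Finite.Basic

/-!
A semisimple class of `PSp₄(q)` whose square covers all non-identity elements.
-/

set_option autoImplicit false
set_option linter.unusedSectionVars false

namespace Cfsg.Agent.H69.PspSquare

open Cfsg.Agent.Symplectic Matrix

variable {F : Type*} [Field F]

/-- The Siegel Levi factor. -/
def levi : (M2 F)ˣ →* SpF F where
  toFun A := ⟨fromBlocks A.1 0 0 (A⁻¹).1ᵀ, SymplecticGroup.fromBlocks_mem_iff.2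
    ⟨by simp, by simp, by simp [← transpose_mul]⟩⟩
  map_one' := Subtype.ext (by simp [fromBlocks_one])
  map_mul' A B := Subtype.ext (by simp [Submonoid.coe_mul, fromBlocks_multiply])

/-- Lower unitriangular element. -/
def ulo (S : M2 F) (hS : Sᵀ = S) : SpF F :=
  ⟨fromBlocks 1 0 S 1, SymplecticGroup.fromBlocks_mem_iff.2 ⟨by simp [hS], by simp, by simp⟩⟩

theorem ulo_inv (S : M2 F) (hS : Sᵀ = S) :
    (ulo S hS)⁻¹ = ulo (-S) (by rw [transpose_neg, hS]) :=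
  inv_eq_of_mul_eq_one_right (Subtype.ext (by
    simp [ulo, Submonoid.coe_mul, fromBlocks_multiply, fromBlocks_one]))

/-- The twisted action on symmetric matrices has no fixed points. -/
def Reg (A : M2 F) : Prop := ∀ S : M2 F, Sᵀ = S → Aᵀ * S * A = S → S = 0

theorem reg_inv {A : (M2 F)ˣ} (h : Reg A.1) : Reg (A⁻¹).1 := by
  intro S hS he
  refine h S hS ?_
  conv_lhs => rw [← he]
  simp only [← Matrix.mul_assoc, ← transpose_mul, Units.inv_mul, transpose_one, one_mul]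
  rw [Matrix.mul_assoc, Units.inv_mul, mul_one]

theorem reg_conj {A Q : (M2 F)ˣ} (h : Reg A.1) : Reg (Q * A * Q⁻¹).1 := by
  intro S hS he
  have h1 := h (Q.1ᵀ * S * Q.1) (by simp [transpose_mul, hS, Matrix.mul_assoc]) ?_
  · calc S = ((Q⁻¹).1ᵀ * Q.1ᵀ) * S * (Q.1 * (Q⁻¹).1) := by simp [← transpose_mul]
      _ = (Q⁻¹).1ᵀ * (Q.1ᵀ * S * Q.1) * (Q⁻¹).1 := by simp only [Matrix.mul_assoc]
      _ = 0 := by rw [h1, Matrix.mul_zero, Matrix.zero_mul]
  · conv_rhs => rw [← he]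
    simp [transpose_mul, Matrix.mul_assoc]
    simp [← Matrix.mul_assoc, ← transpose_mul]

variable [Fintype F]

theorem exists_solve {B : M2 F} (h : Reg B) (S : M2 F) (hS : Sᵀ = S) :
    ∃ T : M2 F, Tᵀ = T ∧ T - Bᵀ * T * B = S := by
  let f : {T : M2 F // Tᵀ = T} → {T : M2 F // Tᵀ = T} := fun T =>
    ⟨T.1 - Bᵀ * T.1 * B, by simp [transpose_mul, T.2, Matrix.mul_assoc]⟩
  have hinj : Function.Injective f := by
    intro x y hxy
    have e : x.1 - Bᵀ * x.1 * B = y.1 - Bᵀ * y.1 * B := congrArg Subtype.val hxy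
    refine Subtype.ext (sub_eq_zero.1 (h _ (by rw [transpose_sub, x.2, y.2]) ?_))
    rw [Matrix.mul_sub, Matrix.sub_mul]
    linear_combination (norm := abel) -e
  obtain ⟨T, hT⟩ := (Finite.injective_iff_surjective.1 hinj) ⟨S, hS⟩
  exact ⟨T.1, T.2, congrArg Subtype.val hT⟩

theorem isConj_ulo {A : (M2 F)ˣ} (h : Reg A.1) (S : M2 F) (hS : Sᵀ = S) :
    IsConj (levi A) (ulo S hS * levi A) := by
  obtain ⟨T, hT, e⟩ := exists_solve (reg_inv h) S hS
  refine isConj_iff.2 ⟨ulo T hT, ?_⟩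
  rw [ulo_inv]
  refine Subtype.ext ?_
  subst e
  simp [ulo, levi, fromBlocks_multiply, sub_eq_add_neg, -Matrix.coe_units_inv, Matrix.add_mul,
    Matrix.mul_assoc]

theorem isConj_uup {A : (M2 F)ˣ} (h : Reg A.1ᵀ) (X : M2 F) (hX : Xᵀ = X) :
    IsConj (levi A) (levi A * uup X hX) := by
  have hA : Reg ((A⁻¹).1ᵀ) := by
    intro S hS he
    refine h S hS ?_
    conv_lhs => rw [← he]
    simp only [transpose_transpose, ← Matrix.mul_assoc, Units.mul_inv, one_mul]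
    rw [Matrix.mul_assoc, ← transpose_mul, Units.mul_inv, transpose_one, mul_one]
  obtain ⟨T, hT, e⟩ := exists_solve hA X hX
  refine isConj_iff.2 ⟨uup (-T) (by rw [transpose_neg, hT]), ?_⟩
  rw [uup_inv]
  refine Subtype.ext ?_
  subst e
  simp [uup, levi, fromBlocks_multiply, sub_eq_add_neg, -Matrix.coe_units_inv, Matrix.mul_add,
    ← Matrix.mul_assoc]

theorem ul_decomp (g : SpF F) (A : (M2 F)ˣ) (h : (g : Mat 2 F).toBlocks₁₁ = A.1) :
    ∃ (S X : M2 F) (hS : Sᵀ = S) (hX : Xᵀ = X), g = ulo S hS * levi A * uup X hX := by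
  have hmem := g.2
  rw [← fromBlocks_toBlocks (g : Mat 2 F), SymplecticGroup.fromBlocks_mem_iff, h] at hmem
  obtain ⟨hac, hbd, had⟩ := hmem
  set B := (g : Mat 2 F).toBlocks₁₂
  set C := (g : Mat 2 F).toBlocks₂₁
  set D := (g : Mat 2 F).toBlocks₂₂
  set a := A.1
  set ai := (A⁻¹).1
  have h1 : a * ai = 1 := A.mul_inv
  have h2 : ai * a = 1 := A.inv_mul
  have h1t : aiᵀ * aᵀ = 1 := by rw [← transpose_mul, h1, transpose_one]
  have hS : (C * ai)ᵀ = C * ai := by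
    calc (C * ai)ᵀ = aiᵀ * Cᵀ * (a * ai) := by rw [h1, mul_one, transpose_mul]
      _ = aiᵀ * (Cᵀ * a) * ai := by simp only [Matrix.mul_assoc]
      _ = aiᵀ * (aᵀ * C) * ai := by rw [hac]
      _ = C * ai := by rw [← Matrix.mul_assoc, h1t, one_mul]
  have hD : D = aiᵀ + C * ai * B := by
    have e : aiᵀ * (aᵀ * D) = aiᵀ * (1 + Cᵀ * B) := by rw [← had, sub_add_cancel]
    rw [← Matrix.mul_assoc, h1t, one_mul, Matrix.mul_add, mul_one, ← Matrix.mul_assoc, ← transpose_mul, hS] at e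
    exact e
  have hX : (ai * B)ᵀ = ai * B := by
    have hCB : (C * ai)ᵀ = C * ai := hS
    have e1 : Bᵀ * D = Bᵀ * aiᵀ + Bᵀ * (C * ai) * B := by
      rw [hD, Matrix.mul_add, ← Matrix.mul_assoc Bᵀ (C * ai)]
    have e2 := congrArg transpose e1
    rw [transpose_mul, transpose_transpose, ← hbd, e1, transpose_add, transpose_mul, transpose_mul,
      transpose_mul, transpose_transpose, transpose_transpose, hS, ← Matrix.mul_assoc Bᵀ (C * ai)] at e2
    rw [transpose_mul]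
    exact add_right_cancel e2
  refine ⟨C * ai, ai * B, hS, hX, Subtype.ext ?_⟩
  rw [Submonoid.coe_mul, Submonoid.coe_mul, ← fromBlocks_toBlocks (g : Mat 2 F), h]
  simp only [ulo, uup, levi, MonoidHom.coe_mk, OneHom.coe_mk, fromBlocks_multiply]
  simp only [one_mul, mul_one, Matrix.zero_mul, Matrix.mul_zero, add_zero, zero_add]
  rw [fromBlocks_inj]
  refine ⟨rfl, ?_, ?_, ?_⟩
  · rw [← Matrix.mul_assoc, h1, one_mul]
  · rw [Matrix.mul_assoc, h2, mul_one]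
  · show D = C * ai * a * (ai * B) + aiᵀ
    rw [hD, Matrix.mul_assoc C ai a, h2, mul_one, ← Matrix.mul_assoc C ai B, add_comm]

/-- `J` as an element of `Sp₄`. -/
theorem isConj_levi_inv {A P : (M2 F)ˣ} (hP : P.1 * A.1 = A.1ᵀ * P.1) :
    IsConj (levi A) (levi A⁻¹) := by
  have hiT : (A⁻¹).1ᵀ * P.1 = P.1 * (A⁻¹).1 := by
    calc (A⁻¹).1ᵀ * P.1 = (A⁻¹).1ᵀ * (P.1 * A.1) * (A⁻¹).1 := by
          simp only [Matrix.mul_assoc, Units.mul_inv, mul_one]
      _ = ((A⁻¹).1ᵀ * A.1ᵀ) * P.1 * (A⁻¹).1 := by rw [hP]; simp only [Matrix.mul_assoc]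
      _ = P.1 * (A⁻¹).1 := by rw [← transpose_mul, Units.mul_inv, transpose_one, one_mul]
  let B : (M2 F)ˣ := P * A⁻¹ * P⁻¹
  have hB : B.1 = (A⁻¹).1ᵀ := by
    show P.1 * (A⁻¹).1 * (P⁻¹).1 = _
    rw [← hiT, Matrix.mul_assoc, Units.mul_inv, mul_one]
  have hBi : (B⁻¹).1ᵀ = A.1 := by
    have : B⁻¹ = P * A * P⁻¹ := by simp [B, mul_assoc]
    rw [this]
    show (P.1 * A.1 * (P⁻¹).1)ᵀ = _
    rw [hP, Matrix.mul_assoc, Units.mul_inv, mul_one, transpose_transpose]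
  have h1 : IsConj (levi A) (levi B) := by
    refine isConj_iff.2 ⟨SymplecticGroup.symJ (Fin 2) F, mul_inv_eq_iff_eq_mul.2 (Subtype.ext ?_)⟩
    simp only [Submonoid.coe_mul, SymplecticGroup.coe_J, J, levi, MonoidHom.coe_mk, OneHom.coe_mk,
      fromBlocks_multiply, hB, hBi]
    simp
  exact h1.trans (isConj_iff.2 ⟨levi P⁻¹, by rw [← map_inv, ← map_mul, ← map_mul]; congr 1; simp [B, mul_assoc]⟩)

/-- Products of two conjugates of `x` or `x⁻¹` contain everything with the given block. -/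
theorem cover_block {A P A₁ B₁ : (M2 F)ˣ} (hA : Reg A.1) (hP : P.1 * A.1 = A.1ᵀ * P.1)
    (h1 : IsConj A A₁) (h2 : IsConj A B₁) {g : SpF F} (hg : HasBlock (A₁ * B₁⁻¹ : (M2 F)ˣ).1 g) :
    ∃ u v : SpF F, g = (u * levi A * u⁻¹) * (v * levi A * v⁻¹) := by
  obtain ⟨k, hk⟩ := hg
  obtain ⟨S, X, hS, hX, e⟩ := ul_decomp _ _ hk
  have hr1 : Reg A₁.1 := by obtain ⟨Q, rfl⟩ := isConj_iff.1 h1; exact reg_conj hA
  have hr2 : Reg (B₁⁻¹).1ᵀ := by
    obtain ⟨Q, rfl⟩ := isConj_iff.1 h2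
    let T : (M2 F)ˣ := P * A * P⁻¹
    have hT : T.1 = A.1ᵀ := by
      show P.1 * A.1 * (P⁻¹).1 = _
      rw [hP, Matrix.mul_assoc, Units.mul_inv, mul_one]
    have hTi : (T⁻¹).1 = (A⁻¹).1ᵀ :=
      Units.inv_eq_of_mul_eq_one_right (by rw [hT, ← transpose_mul, Units.inv_mul, transpose_one])
    let Q' : (M2 F)ˣ := ⟨(Q⁻¹).1ᵀ, Q.1ᵀ, by rw [← transpose_mul, Units.mul_inv, transpose_one],
      by rw [← transpose_mul, Units.inv_mul, transpose_one]⟩
    have e1 : (Q' * T⁻¹ * Q'⁻¹ : (M2 F)ˣ).1 = ((Q * A * Q⁻¹)⁻¹ : (M2 F)ˣ).1ᵀ := by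
      show (Q⁻¹).1ᵀ * (T⁻¹).1 * Q.1ᵀ = _
      rw [hTi]
      simp [transpose_mul, mul_assoc]
    rw [← e1]
    exact reg_conj (reg_inv (reg_conj hA))
  have c1 : IsConj (levi A) (ulo S hS * levi A₁) :=
    ((levi (F := F)).map_isConj h1).trans (isConj_ulo hr1 S hS)
  have hinv : IsConj A⁻¹ B₁⁻¹ := by
    obtain ⟨Q, rfl⟩ := isConj_iff.1 h2
    exact isConj_iff.2 ⟨Q, by group⟩
  have c2 : IsConj (levi A) (levi B₁⁻¹ * uup X hX) :=
    ((isConj_levi_inv hP).trans ((levi (F := F)).map_isConj hinv)).trans (isConj_uup hr2 X hX)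
  obtain ⟨u, hu⟩ := isConj_iff.1 c1
  obtain ⟨v, hv⟩ := isConj_iff.1 c2
  refine ⟨k⁻¹ * u, k⁻¹ * v, ?_⟩
  have : g = k⁻¹ * (ulo S hS * levi (A₁ * B₁⁻¹) * uup X hX) * k := by rw [← e]; group
  rw [this, map_mul]
  calc k⁻¹ * (ulo S hS * (levi A₁ * levi B₁⁻¹) * uup X hX) * k
      = (k⁻¹ * (ulo S hS * levi A₁) * k) * (k⁻¹ * (levi B₁⁻¹ * uup X hX) * k) := by group
    _ = _ := by rw [← hu, ← hv]; group

end Cfsg.Agent.H69.PspSquare
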