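import Cfsg.Agent.Symplectic.Std
import Cfsg.Agent.Symplectic.Center

/-!
Every element of `Sp₄` other than `±1` is, up to sign, conjugate to an element whose upper left
block is `1` or, in odd characteristic, a fixed element of order four.
-/

set_option autoImplicit false
set_option linter.unusedSectionVars false

namespace Cfsg.Agent.H69.PspSquare

open Cfsg.Agent.Symplectic Matrix

variable {F : Type*} [Field F]

/-- `Sp₄`. -/
abbrev SpF (F : Type*) [Field F] := Matrix.symplecticGroup (Fin 2) F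

/-- `2 × 2` matrices. -/
abbrev M2 (F : Type*) := Matrix (Fin 2) (Fin 2) F

/-- The element of order four of `SL₂`. -/
def rot (F : Type*) [Field F] : M2 F := !![0, -1; 1, 0]

/-- A basis vector. -/
def bv (F : Type*) [Field F] (i : Fin 2 ⊕ Fin 2) : Fin 2 ⊕ Fin 2 → F := Pi.single i 1

/-- Conjugate to an element with upper left block `L`. -/
def HasBlock (L : M2 F) (g : SpF F) : Prop :=
  ∃ h : SpF F, ((h * g * h⁻¹ : SpF F) : Mat 2 F).toBlocks₁₁ = L

theorem HasBlock.conj {L : M2 F} {g : SpF F} (h : SpF F) (hg : HasBlock L (h * g * h⁻¹)) :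
    HasBlock L g := by
  obtain ⟨k, hk⟩ := hg
  refine ⟨k * h, ?_⟩
  rw [show k * h * g * (k * h)⁻¹ = k * (h * g * h⁻¹) * k⁻¹ by group]
  exact hk

/-- The negative of a symplectic matrix. -/
def negS (g : SpF F) : SpF F := ⟨-(g : Mat 2 F), SymplecticGroup.neg_mem g.2⟩

theorem negS_conj (h g : SpF F) : h * negS g * h⁻¹ = negS (h * g * h⁻¹) :=
  Subtype.ext (by simp [negS, Submonoid.coe_mul])

/-- Upper unitriangular element. -/
def uup (X : M2 F) (hX : Xᵀ = X) : SpF F :=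
  ⟨fromBlocks 1 X 0 1, SymplecticGroup.fromBlocks_mem_iff.2 ⟨by simp, by simp [hX], by simp⟩⟩

theorem uup_inv (X : M2 F) (hX : Xᵀ = X) :
    (uup X hX)⁻¹ = uup (-X) (by rw [transpose_neg, hX]) :=
  inv_eq_of_mul_eq_one_right (Subtype.ext (by
    simp [uup, Submonoid.coe_mul, fromBlocks_multiply, fromBlocks_one]))

theorem hasBlock_of_symm {g : SpF F} {L X : M2 F} (hX : Xᵀ = X)
    (h : (g : Mat 2 F).toBlocks₁₁ + X * (g : Mat 2 F).toBlocks₂₁ = L) : HasBlock L g := by
  refine ⟨uup X hX, ?_⟩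
  rw [uup_inv, Submonoid.coe_mul, Submonoid.coe_mul, ← fromBlocks_toBlocks (g : Mat 2 F)]
  simp [uup, fromBlocks_multiply, h]

theorem block_mulVec (g : Mat 2 F) (i j : Fin 2) :
    g.toBlocks₂₁ i j = Cfsg.sympForm 2 F (g *ᵥ bv F (Sum.inl j)) (bv F (Sum.inl i)) := by
  rw [bv, bv, Matrix.mulVec_single_one, sympForm_eq, toBlocks₂₁]
  fin_cases i <;> simp [Fin.sum_univ_two, Pi.single_apply]

theorem hasBlock_of_pair (g : SpF F) (L : M2 F) (v : Fin 2 → Fin 2 ⊕ Fin 2 → F)
    (hv : Cfsg.sympForm 2 F (v 0) (v 1) = 0) (C : M2 F)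
    (hC : ∀ i j, C i j = Cfsg.sympForm 2 F ((g : Mat 2 F) *ᵥ v j) (v i))
    (hdet : C.det ≠ 0) (hsym : (Cᵀ * L)ᵀ = Cᵀ * L) : HasBlock L g := by
  have hind : LinearIndependent F v := by
    rw [Fintype.linearIndependent_iff]
    intro c hc
    have h0 : ∀ i, (C *ᵥ c) i = 0 := fun i => by
      have := congrArg (fun w => Cfsg.sympForm 2 F ((g : Mat 2 F) *ᵥ w) (v i)) hc
      simp only [Fin.sum_univ_two, mulVec_add, mulVec_smul, mulVec_zero, sf_add_left, sf_smul_left] at this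
      rw [show Cfsg.sympForm 2 F 0 (v i) = 0 by simp [sympForm_eq]] at this
      simp only [Matrix.mulVec, dotProduct, Fin.sum_univ_two, hC]
      linear_combination this
    intro i
    exact congrFun (Matrix.eq_zero_of_mulVec_eq_zero hdet (funext h0)) i
  have hstd : LinearIndependent F (fun j : Fin 2 => bv F (Sum.inl j)) :=
    (Pi.linearIndependent_single_one (Fin 2 ⊕ Fin 2) F).comp _ Sum.inl_injective
  obtain ⟨H, hH⟩ := exists_sp_map v (fun j => bv F (Sum.inl j)) hind hstd (fun i j => by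
    have h2 : Cfsg.sympForm 2 F (bv F (Sum.inl i)) (bv F (Sum.inl j)) = 0 := by
      simp [bv, sympForm_eq, Pi.single_apply]
    rw [h2]
    fin_cases i <;> fin_cases j
    · exact sf_self _
    · exact hv
    · rw [sf_swap]; simp [hv]
    · exact sf_self _)
  refine HasBlock.conj H ?_
  set g' := H * g * H⁻¹ with hg'
  set A := (g' : Mat 2 F).toBlocks₁₁
  have hc : (g' : Mat 2 F).toBlocks₂₁ = C := by
    ext i j
    rw [block_mulVec, ← hH i, ← hH j, mulVec_mulVec, ← Submonoid.coe_mul, hg',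
      inv_mul_cancel_right, Submonoid.coe_mul, ← mulVec_mulVec, sf_invariant, hC]
  have hAC : Aᵀ * C = Cᵀ * A := by
    have hmem := g'.2
    rw [← fromBlocks_toBlocks (g' : Mat 2 F), SymplecticGroup.fromBlocks_mem_iff, hc] at hmem
    exact hmem.1
  have hu : IsUnit C.det := isUnit_iff_ne_zero.2 hdet
  have hXC : (L - A) * C⁻¹ * C = L - A := nonsing_inv_mul_cancel_right _ _ hu
  refine hasBlock_of_symm (X := (L - A) * C⁻¹) ?_ (by rw [hc, hXC]; exact add_sub_cancel A L)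
  have e1 : Cᵀ * ((L - A) * C⁻¹) * C = Cᵀ * (L - A) := by rw [Matrix.mul_assoc, hXC]
  have e2 : Cᵀ * ((L - A) * C⁻¹)ᵀ * C = (Cᵀ * (L - A))ᵀ := by
    rw [← e1]
    simp only [transpose_mul, transpose_transpose, Matrix.mul_assoc]
  have e3 : (Cᵀ * (L - A))ᵀ = Cᵀ * (L - A) := by
    rw [Matrix.mul_sub, transpose_sub, hsym, transpose_mul Cᵀ A, transpose_transpose, hAC]
  rw [e3, ← e1] at e2
  have hCu : IsUnit C := (Matrix.isUnit_iff_isUnit_det C).2 hu
  exact (Matrix.isUnit_transpose (A := C) |>.2 hCu).mul_left_cancel (hCu.mul_right_cancel e2)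

theorem sf_coord (x y : Fin 2 ⊕ Fin 2 → F) : Cfsg.sympForm 2 F x y =
    x (Sum.inr 0) * y (Sum.inl 0) - x (Sum.inl 0) * y (Sum.inr 0) +
      (x (Sum.inr 1) * y (Sum.inl 1) - x (Sum.inl 1) * y (Sum.inr 1)) := by
  rw [sympForm_eq, Fin.sum_univ_two]

theorem eq_smul_one_of_forall (g : SpF F) (h : ∀ u, ∃ a : F, (g : Mat 2 F) *ᵥ u = a • u) :
    ∃ a : F, (g : Mat 2 F) = a • 1 := by
  obtain ⟨a, ha⟩ := LinearMap.exists_eq_smul_id_of_forall_notLinearIndependent
    (f := Matrix.toLin' (g : Mat 2 F)) (fun v => by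
      obtain ⟨a, ha⟩ := h v
      intro hli
      have := (LinearIndependent.pair_iff.mp hli) a (-1) (by simp [Matrix.toLin'_apply, ha])
      simp at this)
  refine ⟨a, Matrix.ext_of_mulVec_single fun i => ?_⟩
  have := LinearMap.congr_fun ha (Pi.single i 1)
  rw [Matrix.toLin'_apply, LinearMap.smul_apply, Module.End.one_apply] at this
  rw [this, Matrix.smul_mulVec, Matrix.one_mulVec]

open Classical in
/-- The self-adjoint elements. -/
theorem hasBlock_selfAdjoint (g : SpF F) (hne : ∀ a : F, (g : Mat 2 F) ≠ a • 1)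
    (hall : ∀ u, Cfsg.sympForm 2 F ((g : Mat 2 F) *ᵥ u) u = 0) :
    HasBlock (if (2 : F) = 0 then 1 else rot F) g := by
  obtain ⟨u, hu⟩ : ∃ u, ∀ a : F, (g : Mat 2 F) *ᵥ u ≠ a • u := by
    by_contra hcon
    push Not at hcon
    obtain ⟨a, ha⟩ := eq_smul_one_of_forall g hcon
    exact hne a ha
  set z := (g : Mat 2 F) *ᵥ u with hz
  obtain ⟨v, h1, h2⟩ : ∃ v, Cfsg.sympForm 2 F u v = 0 ∧ Cfsg.sympForm 2 F z v ≠ 0 := by
    by_contra hcon
    push Not at hcon
    have hu0 : u ≠ 0 := fun h => hu 0 (by simp [hz, h])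
    obtain ⟨y, hy⟩ := sf_exists_one hu0
    set a := Cfsg.sympForm 2 F z y
    refine hu a (sub_eq_zero.1 ?_)
    by_contra hd
    obtain ⟨x, hx⟩ := sf_exists_one hd
    have hk := hcon (x + (-Cfsg.sympForm 2 F u x) • y)
      (by rw [sf_add_right, sf_smul_right, hy]; ring)
    rw [sf_add_right, sf_smul_right] at hk
    rw [sub_eq_add_neg, ← neg_smul, sf_add_left, sf_smul_left] at hx
    exact one_ne_zero (α := F) (by linear_combination hk - hx)
  set v' := (Cfsg.sympForm 2 F z v)⁻¹ • v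
  have hv' : Cfsg.sympForm 2 F z v' = 1 := by rw [sf_smul_right, inv_mul_cancel₀ h2]
  have hvv : Cfsg.sympForm 2 F u v' = 0 := by rw [sf_smul_right, h1, mul_zero]
  have hflip : Cfsg.sympForm 2 F ((g : Mat 2 F) *ᵥ v') u = -1 := by
    have := hall (u + v')
    rw [mulVec_add, sf_add_left, sf_add_right, sf_add_right, hall, hall] at this
    linear_combination this - hv'
  refine hasBlock_of_pair g _ ![u, v'] hvv (rot F) ?_ (by simp [rot, Matrix.det_fin_two]) ?_
  · intro i j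
    fin_cases i <;> fin_cases j
    · exact (hall u).symm
    · exact hflip.symm
    · exact hv'.symm
    · exact (hall v').symm
  · split_ifs with h
    · have hone : (-1 : F) = 1 := by linear_combination -h
      ext i j
      fin_cases i <;> fin_cases j <;> simp [rot, hone]
    · ext i j
      fin_cases i <;> fin_cases j <;> simp [rot, Matrix.mul_apply, Fin.sum_univ_two]

theorem exists_good_param [Fintype F] (l ν β κ P : F) (hl : l ≠ 0) (hl2 : l * l ≠ 1)
    (hne : ¬(P = 0 ∧ κ * β ^ 2 = 0)) :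
    ∃ r : F, r ≠ 0 ∧ l⁻¹ - l - r * ν ≠ 0 ∧ (l⁻¹ - l - r * ν) * P - r * κ * β ^ 2 ≠ 0 := by
  classical
  set c := l⁻¹ - l with hc
  have hc0 : c ≠ 0 := by
    intro h
    refine hl2 ?_
    have h1 : l * l⁻¹ = 1 := mul_inv_cancel₀ hl
    linear_combination h1 - l * h
  set s : Finset F := {0, c / ν, c * P / (ν * P + κ * β ^ 2)}
  obtain ⟨r, hr⟩ : ∃ r, r ∉ s := by
    by_contra hcon
    push Not at hcon
    have h4 : 4 ≤ Fintype.card F := by
      have h1 : l ≠ 1 := fun h => hl2 (by rw [h, mul_one])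
      have hli : l⁻¹ ≠ l := fun h => hc0 (by rw [hc, h, sub_self])
      have : ({0, 1, l, l⁻¹} : Finset F).card = 4 := by
        rw [Finset.card_insert_of_notMem, Finset.card_insert_of_notMem,
          Finset.card_insert_of_notMem, Finset.card_singleton]
        · simpa using hli.symm
        · simp only [Finset.mem_insert, Finset.mem_singleton]
          push Not
          exact ⟨h1.symm, fun h => h1 (inv_eq_one.1 h.symm)⟩
        · simp [hl, hl.symm]
      exact this.symm.le.trans (Finset.card_le_univ _)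
    have : Fintype.card F ≤ 3 := by
      calc Fintype.card F ≤ s.card := Finset.card_le_card fun x _ => hcon x
        _ ≤ 3 := Finset.card_le_three
    omega
  simp only [s, Finset.mem_insert, Finset.mem_singleton] at hr
  push Not at hr
  refine ⟨r, hr.1, fun h => ?_, fun h => ?_⟩
  · by_cases hν : ν = 0
    · exact hc0 (by linear_combination h + r * hν)
    · exact hr.2.1 (by rw [eq_div_iff hν]; linear_combination -h)
  · by_cases hd : ν * P + κ * β ^ 2 = 0
    · have hP : c * P = 0 := by linear_combination h + r * hd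
      rcases mul_eq_zero.1 hP with h' | h'
      · exact hc0 h'
      · exact hne ⟨h', by linear_combination hd - ν * h'⟩
    · exact hr.2.2 (by rw [eq_div_iff hd]; linear_combination -h)

/-- An eigenvector in a plane. -/
theorem hasBlock_triangular [Fintype F] (g : SpF F) {κ l : F} (hκ : κ ≠ 0)
    (ha : (g : Mat 2 F).toBlocks₁₁ = !![0, 0; 0, l]) (hc : (g : Mat 2 F).toBlocks₂₁ = !![κ, 0; 0, 0]) :
    HasBlock 1 g ∨ HasBlock 1 (negS g) := by
  have hmem := g.2
  rw [← fromBlocks_toBlocks (g : Mat 2 F), SymplecticGroup.fromBlocks_mem_iff, ha, hc] at hmem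
  obtain ⟨-, hBD, hAD⟩ := hmem
  set B := (g : Mat 2 F).toBlocks₁₂ with hB
  set D := (g : Mat 2 F).toBlocks₂₂ with hD
  have e00 := congrFun (congrFun hAD 0) 0
  have e01 := congrFun (congrFun hAD 0) 1
  have e10 := congrFun (congrFun hAD 1) 0
  have e11 := congrFun (congrFun hAD 1) 1
  have e' := congrFun (congrFun hBD 0) 1
  simp [Matrix.mul_apply, Fin.sum_univ_two] at e00 e01 e10 e11 e'
  have hl : l ≠ 0 := fun h => by simp [h] at e11
  by_cases hl1 : l = 1
  · subst hl1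
    refine Or.inl (hasBlock_of_symm (X := !![κ⁻¹, 0; 0, 0]) (by
      ext i j; fin_cases i <;> fin_cases j <;> simp) ?_)
    rw [ha, hc]
    ext i j
    fin_cases i <;> fin_cases j <;> simp [hκ]
  by_cases hl2 : l = -1
  · subst hl2
    refine Or.inr (hasBlock_of_symm (X := !![-κ⁻¹, 0; 0, 0]) (by
      ext i j; fin_cases i <;> fin_cases j <;> simp) ?_)
    show (-(g : Mat 2 F)).toBlocks₁₁ + _ * (-(g : Mat 2 F)).toBlocks₂₁ = 1
    rw [show (-(g : Mat 2 F)).toBlocks₁₁ = -(g : Mat 2 F).toBlocks₁₁ from rfl,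
      show (-(g : Mat 2 F)).toBlocks₂₁ = -(g : Mat 2 F).toBlocks₂₁ from rfl, ha, hc]
    ext i j
    fin_cases i <;> fin_cases j <;> simp [hκ]
  refine Or.inl ?_
  have hll : l * l ≠ 1 := fun h => (mul_self_eq_one_iff.1 h).elim hl1 hl2
  have b01 : B 0 1 = 0 := e01.resolve_left hκ
  have d10 : D 1 0 = 0 := e10.resolve_left hl
  have d11 : D 1 1 = l⁻¹ := eq_inv_of_mul_eq_one_right e11
  have b00 : B 0 0 = -κ⁻¹ := by
    rw [eq_comm, neg_eq_iff_eq_neg]
    exact (eq_inv_of_mul_eq_one_right (by linear_combination e00)).symm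
  rw [b00, b01, d10, d11] at e'
  have d01 : D 0 1 = κ * B 1 0 * l⁻¹ := by
    have hk : κ * κ⁻¹ = 1 := mul_inv_cancel₀ hκ
    linear_combination -κ * e' - D 0 1 * hk
  have hact : ∀ w : Fin 2 ⊕ Fin 2 → F,
      ((g : Mat 2 F) *ᵥ w) (Sum.inl 0) = -κ⁻¹ * w (Sum.inr 0) ∧
      ((g : Mat 2 F) *ᵥ w) (Sum.inl 1) = l * w (Sum.inl 1) + B 1 0 * w (Sum.inr 0) + B 1 1 * w (Sum.inr 1) ∧
      ((g : Mat 2 F) *ᵥ w) (Sum.inr 0) =
        κ * w (Sum.inl 0) + D 0 0 * w (Sum.inr 0) + κ * B 1 0 * l⁻¹ * w (Sum.inr 1) ∧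
      ((g : Mat 2 F) *ᵥ w) (Sum.inr 1) = l⁻¹ * w (Sum.inr 1) := by
    intro w
    have hsplit : (g : Mat 2 F) = fromBlocks !![0, 0; 0, l] B !![κ, 0; 0, 0] D := by
      rw [← ha, ← hc]; exact (fromBlocks_toBlocks _).symm
    rw [hsplit]
    simp [fromBlocks_mulVec, Matrix.mulVec, dotProduct, Fin.sum_univ_two, b00, b01, d10, d11, d01]
    constructor <;> ring
  set t := D 0 0
  set β := B 1 0
  set ν := B 1 1
  by_cases hβ : β = 0
  · obtain ⟨r, hr, hΔ, -⟩ := exists_good_param l ν 0 κ 1 hl hll (fun h => one_ne_zero h.1)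
    let u : Fin 2 ⊕ Fin 2 → F := Sum.elim ![0, 1] ![0, r]
    let v : Fin 2 ⊕ Fin 2 → F := Sum.elim ![1, 0] ![0, 0]
    refine hasBlock_of_pair g 1 ![u, v] (by simp [sf_coord, u, v])
      !![r * (l⁻¹ - l - r * ν), 0; 0, κ] ?_ (by simp [Matrix.det_fin_two, hr, hΔ, hκ]) ?_
    · intro i j
      fin_cases i <;> fin_cases j <;> simp [sf_coord, hact, u, v, hβ] <;> ring
    · ext i j
      fin_cases i <;> fin_cases j <;> simp
  · obtain ⟨r, hr, hΔ, hQ⟩ := exists_good_param l ν β κ (l ^ 2 - t * l + 1) hl hll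
      (fun h => hβ (by simpa [hκ] using h.2))
    set Δ := l⁻¹ - l - r * ν with hΔdef
    let u : Fin 2 ⊕ Fin 2 → F := Sum.elim ![0, 1] ![0, r]
    let v : Fin 2 ⊕ Fin 2 → F := Sum.elim ![l * Δ, -κ * β] ![-κ * Δ, -r * κ * β]
    have h1 : l * l⁻¹ = 1 := mul_inv_cancel₀ hl
    have h2 : κ * κ⁻¹ = 1 := mul_inv_cancel₀ hκ
    refine hasBlock_of_pair g 1 ![u, v] (by simp [sf_coord, u, v]; ring)
      !![r * Δ, 0; 0, κ * Δ * (Δ * (l ^ 2 - t * l + 1) - r * κ * β ^ 2)] ?_
      (by simp [Matrix.det_fin_two, hr, hΔ, hκ, hQ]) ?_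
    · intro i j
      fin_cases i <;> fin_cases j <;> simp [sf_coord, hact, u, v]
      · rw [hΔdef]; ring
      · linear_combination (r * κ * β) * hΔdef
      · linear_combination -(r * κ * β * Δ) * h1
      · linear_combination -(κ * Δ ^ 2) * h2 + (r * κ ^ 2 * β ^ 2) * hΔdef + (r * κ ^ 2 * β ^ 2 * Δ) * h1
    · ext i j
      fin_cases i <;> fin_cases j <;> simp

/-- The main decomposition. -/
theorem hasBlock_cases [Fintype F] (g : SpF F) (hne : ∀ a : F, (g : Mat 2 F) ≠ a • 1) :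
    HasBlock 1 g ∨ HasBlock 1 (negS g) ∨ ((2 : F) ≠ 0 ∧ HasBlock (rot F) g) := by
  by_cases hall : ∀ u, Cfsg.sympForm 2 F ((g : Mat 2 F) *ᵥ u) u = 0
  · have := hasBlock_selfAdjoint g hne hall
    split_ifs at this with h
    · exact Or.inl this
    · exact Or.inr (Or.inr ⟨h, this⟩)
  push Not at hall
  obtain ⟨u, hκ⟩ := hall
  set w := (g : Mat 2 F) *ᵥ u with hw
  set κ := Cfsg.sympForm 2 F w u with hκdef
  let φ : (Fin 2 ⊕ Fin 2 → F) →ₗ[F] (Fin 3 → F) :=
    LinearMap.pi ![spB 2 F u, spB 2 F w, ((spB 2 F).flip u).comp (Matrix.mulVecLin (g : Mat 2 F))]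
  obtain ⟨v, hv, hv0⟩ := Submodule.exists_mem_ne_zero_of_ne_bot
    (LinearMap.ker_ne_bot_of_finrank_lt (f := φ) (by simp))
  have hφ := fun k => congrFun (LinearMap.mem_ker.1 hv) k
  have huv : Cfsg.sympForm 2 F u v = 0 := by simpa [φ] using hφ 0
  have hwv : Cfsg.sympForm 2 F w v = 0 := by simpa [φ] using hφ 1
  have hgu : Cfsg.sympForm 2 F ((g : Mat 2 F) *ᵥ v) u = 0 := by simpa [φ] using hφ 2
  by_cases hd : Cfsg.sympForm 2 F ((g : Mat 2 F) *ᵥ v) v = 0
  swap
  · refine Or.inl (hasBlock_of_pair g 1 ![u, v] huv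
      !![κ, 0; 0, Cfsg.sympForm 2 F ((g : Mat 2 F) *ᵥ v) v] ?_ (by simp [Matrix.det_fin_two, hκ, hd]) ?_)
    · intro i j
      fin_cases i <;> fin_cases j <;> simp [← hκdef, hgu, ← hw, hwv]
    · ext i j
      fin_cases i <;> fin_cases j <;> simp
  have hind : LinearIndependent F ![u, w, v] := by
    rw [Fintype.linearIndependent_iff]
    intro c hc
    have h1 := congrArg (fun x => Cfsg.sympForm 2 F x u) hc
    have h2 := congrArg (fun x => Cfsg.sympForm 2 F w x) hc
    simp [Fin.sum_univ_three, sf_add_left, sf_add_right, sf_smul_left, sf_smul_right, sf_self,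
      ← hκdef, sf_swap v u, huv, hwv, sf_coord 0, sf_coord _ 0] at h1 h2
    have c0 : c 0 = 0 := h2.resolve_right hκ
    have c1 : c 1 = 0 := h1.resolve_right hκ
    have c2 : c 2 = 0 := by
      simpa [Fin.sum_univ_three, c0, c1, hv0] using hc
    intro i
    fin_cases i <;> assumption
  let b : Fin 3 → Fin 2 ⊕ Fin 2 → F := ![bv F (Sum.inl 0), κ • bv F (Sum.inr 0), bv F (Sum.inl 1)]
  have hb : LinearIndependent F b := by
    rw [Fintype.linearIndependent_iff]
    intro c hc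
    have h0 := congrFun hc (Sum.inl 0)
    have h1 := congrFun hc (Sum.inr 0)
    have h2 := congrFun hc (Sum.inl 1)
    simp [b, bv, Fin.sum_univ_three, hκ] at h0 h1 h2
    intro i
    fin_cases i <;> assumption
  obtain ⟨H, hH⟩ := exists_sp_map ![u, w, v] b hind hb (fun i j => by
    fin_cases i <;> fin_cases j <;>
      simp [b, bv, sf_coord (Pi.single _ _), sf_coord (_ • _), Pi.single_apply, sf_self,
        sf_swap u w, sf_swap v u, sf_swap v w, ← hκdef, huv, hwv])
  have hH0 : (H : Mat 2 F) *ᵥ u = bv F (Sum.inl 0) := hH 0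
  have hH1 : (H : Mat 2 F) *ᵥ w = κ • bv F (Sum.inr 0) := hH 1
  have hH2 : (H : Mat 2 F) *ᵥ v = bv F (Sum.inl 1) := hH 2
  set g' := H * g * H⁻¹ with hg'
  have hconj : ∀ x, (g' : Mat 2 F) *ᵥ ((H : Mat 2 F) *ᵥ x) = (H : Mat 2 F) *ᵥ ((g : Mat 2 F) *ᵥ x) := by
    intro x
    rw [mulVec_mulVec, mulVec_mulVec, ← Submonoid.coe_mul, ← Submonoid.coe_mul, hg', inv_mul_cancel_right]
  have he1 : (g' : Mat 2 F) *ᵥ bv F (Sum.inl 0) = κ • bv F (Sum.inr 0) := by
    have := hconj u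
    rw [← hw, hH0, hH1] at this
    exact this
  have he2 : ∃ l : F, (g' : Mat 2 F) *ᵥ bv F (Sum.inl 1) = l • bv F (Sum.inl 1) := by
    set y := (g' : Mat 2 F) *ᵥ bv F (Sum.inl 1) with hy
    have hy' : y = (H : Mat 2 F) *ᵥ ((g : Mat 2 F) *ᵥ v) := by
      have := hconj v
      rw [hH2] at this
      exact this
    have k0 : Cfsg.sympForm 2 F y (bv F (Sum.inl 0)) = 0 := by
      rw [hy', show bv F (Sum.inl 0) = (H : Mat 2 F) *ᵥ u from hH0.symm, sf_invariant, hgu]
    have k1 : Cfsg.sympForm 2 F y (bv F (Sum.inl 1)) = 0 := by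
      rw [hy', show bv F (Sum.inl 1) = (H : Mat 2 F) *ᵥ v from hH2.symm, sf_invariant, hd]
    have k2 : Cfsg.sympForm 2 F y (κ • bv F (Sum.inr 0)) = 0 := by
      rw [hy', show κ • bv F (Sum.inr 0) = (H : Mat 2 F) *ᵥ w from hH1.symm, sf_invariant, hw,
        sf_invariant, sf_swap, huv, neg_zero]
    simp [sf_coord, bv, hκ] at k0 k1 k2
    refine ⟨y (Sum.inl 1), funext fun i => ?_⟩
    rcases i with i | i <;> fin_cases i <;> simp [bv, k0, k1, k2]
  obtain ⟨l, he2⟩ := he2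
  have hentry : ∀ i j, (g' : Mat 2 F) i (Sum.inl j) = ((g' : Mat 2 F) *ᵥ bv F (Sum.inl j)) i := fun i j => by
    rw [bv, Matrix.mulVec_single_one]; rfl
  have ha : (g' : Mat 2 F).toBlocks₁₁ = !![0, 0; 0, l] := by
    ext i j
    rw [toBlocks₁₁, of_apply, hentry]
    revert i j
    simp only [Fin.forall_fin_two, he1, he2]
    simp [bv]
  have hc : (g' : Mat 2 F).toBlocks₂₁ = !![κ, 0; 0, 0] := by
    ext i j
    rw [toBlocks₂₁, of_apply, hentry]
    revert i j
    simp only [Fin.forall_fin_two, he1, he2]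
    simp [bv]
  rcases hasBlock_triangular g' hκ ha hc with h | h
  · exact Or.inl (h.conj H)
  · exact Or.inr (Or.inl (HasBlock.conj H (by rw [negS_conj]; exact h)))

end Cfsg.Agent.H69.PspSquare
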