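import Cfsg.Agent.H69.PspSquare.Cover
import Cfsg.Prelude.Def_Classical

/-!
The parameters of the covering class.
-/

set_option autoImplicit false
set_option linter.unusedSectionVars false

namespace Cfsg.Agent.H69.PspSquare

open Cfsg.Agent.Symplectic Matrix

variable {F : Type*} [Field F] [Fintype F]

/-- A unit from a matrix with non-zero determinant. -/
noncomputable def unitOf (A : M2 F) (h : A.det ≠ 0) : (M2 F)ˣ :=
  GeneralLinearGroup.mkOfDetNeZero A h

theorem unitOf_val (A : M2 F) (h : A.det ≠ 0) : (unitOf A h).1 = A := rfl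

/-- A companion matrix. -/
def comp2 (a b : F) : M2 F := !![0, -b; 1, a]

theorem det_comp2 (a b : F) : (comp2 a b).det = b := by simp [comp2, Matrix.det_fin_two]

theorem comp2_symm (a b : F) :
    !![(0 : F), 1; 1, a] * comp2 a b = (comp2 a b)ᵀ * !![(0 : F), 1; 1, a] := by
  ext i j
  fin_cases i <;> fin_cases j <;> simp [comp2, Matrix.mul_apply, Fin.sum_univ_two] <;> ring

theorem reg_comp2_zero (b : F) (hb : b * b ≠ 1) : Reg (comp2 0 b) := by
  intro S hS he
  have hsym : S 1 0 = S 0 1 := congrFun (congrFun hS 0) 1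
  have h00 := congrFun (congrFun he 0) 0
  have h01 := congrFun (congrFun he 0) 1
  have h11 := congrFun (congrFun he 1) 1
  simp [comp2, Matrix.mul_apply, Fin.sum_univ_two, hsym] at h00 h01 h11
  have s00 : S 0 0 = 0 := by
    refine (mul_eq_zero.1 (?_ : (b * b - 1) * S 0 0 = 0)).resolve_left (sub_ne_zero.2 hb)
    linear_combination h11 + h00
  have s11 : S 1 1 = 0 := h00.trans s00
  have s01 : S 0 1 = 0 := by
    refine (mul_eq_zero.1 (?_ : (b + 1) * S 0 1 = 0)).resolve_left (fun h => hb (by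
      linear_combination (b - 1) * h))
    linear_combination -h01
  ext i j
  fin_cases i <;> fin_cases j <;> simp [s00, s01, s11, hsym]

theorem reg_comp2_three (h3 : (3 : F) = 0) : Reg (comp2 (1 : F) (-1)) := by
  intro S hS he
  have h2 : (2 : F) ≠ 0 := fun h => one_ne_zero (α := F) (by linear_combination h3 - h)
  have hsym : S 1 0 = S 0 1 := congrFun (congrFun hS 0) 1
  have h00 := congrFun (congrFun he 0) 0
  have h01 := congrFun (congrFun he 0) 1
  have h11 := congrFun (congrFun he 1) 1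
  simp [comp2, Matrix.mul_apply, Fin.sum_univ_two, hsym] at h00 h01 h11
  have s11 : S 1 1 = 0 := by linear_combination h01
  have s00 : S 0 0 = 0 := h00.symm.trans s11
  have s01 : S 0 1 = 0 := by
    refine (mul_eq_zero.1 (?_ : (2 : F) * S 0 1 = 0)).resolve_left h2
    linear_combination h11 - s00
  ext i j
  fin_cases i <;> fin_cases j <;> simp [s00, s01, s11, hsym]

theorem isConj_comp2 {a b : F} (hb : (comp2 a b).det ≠ 0) (B : M2 F) (hB : B.det ≠ 0)
    (ht : B 0 0 + B 1 1 = a) (hd : B.det = b) (x y : F)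
    (hv : x * (B 1 0 * x + B 1 1 * y) - y * (B 0 0 * x + B 0 1 * y) ≠ 0) :
    IsConj (unitOf (comp2 a b) hb) (unitOf B hB) := by
  let Q : M2 F := !![x, B 0 0 * x + B 0 1 * y; y, B 1 0 * x + B 1 1 * y]
  have hQ : Q.det ≠ 0 := by
    rw [Matrix.det_fin_two]
    show x * (B 1 0 * x + B 1 1 * y) - (B 0 0 * x + B 0 1 * y) * y ≠ 0
    rwa [mul_comm (B 0 0 * x + B 0 1 * y) y]
  refine isConj_iff.2 ⟨unitOf Q hQ, mul_inv_eq_iff_eq_mul.2 (Units.ext ?_)⟩
  show Q * comp2 a b = B * Q
  rw [Matrix.det_fin_two] at hd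
  ext i j
  fin_cases i <;> fin_cases j <;> simp [Q, comp2, Matrix.mul_apply, Fin.sum_univ_two]
  · linear_combination x * hd - (B 0 0 * x + B 0 1 * y) * ht
  · linear_combination y * hd - (B 1 0 * x + B 1 1 * y) * ht

/-- The data of a covering class. -/
theorem exists_data (p : ℕ) [Fact p.Prime] [CharP F p] (h3 : 3 ≤ Fintype.card F) :
    ∃ (A P : (M2 F)ˣ) (n : ℕ), Reg A.1 ∧ P.1 * A.1 = A.1ᵀ * P.1 ∧ ¬ p ∣ n ∧
      ((levi A ^ n : SpF F) : Mat 2 F) ∈ ({1, -1} : Set (Mat 2 F)) ∧
      ((2 : F) ≠ 0 → ∃ A₁ B₁, IsConj A A₁ ∧ IsConj A B₁ ∧ (A₁ * B₁⁻¹ : (M2 F)ˣ).1 = rot F) := by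
  classical
  have hp : p.Prime := Fact.out
  have hlev : ∀ (A : (M2 F)ˣ) (m : ℕ), A ^ m = 1 →
      ((levi A ^ m : SpF F) : Mat 2 F) ∈ ({1, -1} : Set (Mat 2 F)) := by
    intro A m hm
    rw [← map_pow, hm, map_one]
    exact Or.inl rfl
  have hpq : ¬ p ∣ Fintype.card F - 1 := by
    intro h
    obtain ⟨e, -, he⟩ := FiniteField.card F p
    rw [he] at h
    have h1 : p ∣ p ^ (e : ℕ) := dvd_pow_self p e.ne_zero
    have := Nat.dvd_sub h1 h
    rw [Nat.sub_sub_self (Nat.one_le_pow _ _ hp.pos)] at this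
    exact hp.one_lt.ne' (Nat.dvd_one.1 this)
  by_cases h2 : (2 : F) = 0
  · obtain ⟨w, hw⟩ : ∃ w, w ∉ ({0, 1} : Finset F) := by
      by_contra hcon
      push Not at hcon
      have := (Finset.card_le_card (s := (Finset.univ : Finset F)) fun x _ => hcon x).trans
        Finset.card_le_two
      rw [Finset.card_univ] at this
      omega
    simp only [Finset.mem_insert, Finset.mem_singleton] at hw
    push Not at hw
    have hw2 : w * w ≠ 1 := fun h => hw.2 (by
      have h' : (w - 1) ^ 2 = 0 := by linear_combination h - (w - 1) * h2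
      exact sub_eq_zero.1 (pow_eq_zero_iff two_ne_zero |>.1 h'))
    let A : (M2 F)ˣ := unitOf !![w, 0; 0, w] (by simp [Matrix.det_fin_two, hw.1])
    refine ⟨A, 1, Fintype.card F - 1, ?_, ?_, hpq, hlev _ _ ?_, fun h => absurd h2 h⟩
    · intro S hS he
      ext i j
      have := congrFun (congrFun he i) j
      fin_cases i <;> fin_cases j <;>
        simp [A, unitOf_val, Matrix.mul_apply, Fin.sum_univ_two] at this ⊢ <;>
        exact (mul_eq_zero.1 (by linear_combination this : (w * w - 1) * _ = 0)).resolve_left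
          (sub_ne_zero.2 hw2)
    · simp [A, unitOf_val]
      ext i j
      fin_cases i <;> fin_cases j <;> simp
    · refine Units.ext ?_
      rw [Units.val_pow_eq_pow_val, unitOf_val, Units.val_one,
        show (!![w, 0; 0, w] : M2 F) = w • 1 by ext i j; fin_cases i <;> fin_cases j <;> simp,
        smul_pow, one_pow, FiniteField.pow_card_sub_one_eq_one w hw.1, one_smul]
  have hp2 : p ≠ 2 := fun h => h2 (by subst h; exact CharP.cast_eq_zero F 2)
  have hpn : ¬ p ∣ 2 * (Fintype.card F - 1) := fun h => by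
    rcases hp.dvd_mul.1 h with h | h
    · exact hp2 ((Nat.prime_dvd_prime_iff_eq hp Nat.prime_two).1 h)
    · exact hpq h
  by_cases hq3 : Fintype.card F = 3
  · have h3' : (3 : F) = 0 := by
      have := Nat.cast_card_eq_zero F
      rw [hq3] at this
      exact_mod_cast this
    have h1n : (-1 : F) ≠ 0 := by simp
    let A : (M2 F)ˣ := unitOf (comp2 1 (-1)) (by rw [det_comp2]; exact h1n)
    let P : (M2 F)ˣ := unitOf !![0, 1; 1, 1] (by simp [Matrix.det_fin_two])
    have hp8 : ¬ p ∣ 8 := fun h => hp2 ((Nat.prime_dvd_prime_iff_eq hp Nat.prime_two).1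
      (hp.dvd_of_dvd_pow (show p ∣ 2 ^ 3 by simpa using h)))
    refine ⟨A, P, 8, reg_comp2_three h3', comp2_symm 1 (-1), hp8, hlev _ _ ?_, fun _ => ?_⟩
    · refine Units.ext ?_
      rw [Units.val_pow_eq_pow_val, unitOf_val, Units.val_one, show (8 : ℕ) = 2 * 2 * 2 from rfl,
        pow_mul, pow_mul]
      ext i j
      fin_cases i <;> fin_cases j <;> simp [comp2, pow_two, Matrix.mul_apply, Fin.sum_univ_two]
      · linear_combination (4 : F) * h3'
      · linear_combination (7 : F) * h3'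
      · linear_combination (7 : F) * h3'
      · linear_combination (11 : F) * h3'
    · let A₁ : (M2 F)ˣ := unitOf !![-1, 1; -1, -1] (by
        simp [Matrix.det_fin_two]; intro h; exact h2 (by linear_combination h))
      let B₁ : (M2 F)ˣ := unitOf !![-1, -1; 1, -1] (by
        simp [Matrix.det_fin_two]; intro h; exact h2 (by linear_combination h))
      refine ⟨A₁, B₁, ?_, ?_, ?_⟩
      · exact isConj_comp2 _ _ _ (by simp; linear_combination -h3') (by simp [Matrix.det_fin_two]; linear_combination h3')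
          1 0 (by simp)
      · exact isConj_comp2 _ _ _ (by simp; linear_combination -h3') (by simp [Matrix.det_fin_two]; linear_combination h3')
          1 0 (by simp)
      · rw [Units.val_mul]
        refine ((Units.mul_inv_eq_iff_eq_mul B₁).2 ?_)
        show (!![-1, 1; -1, -1] : M2 F) = rot F * !![-1, -1; 1, -1]
        ext i j
        fin_cases i <;> fin_cases j <;> simp [rot, Matrix.mul_apply, Fin.sum_univ_two]
  obtain ⟨b, hb⟩ : ∃ b, b ∉ ({0, 1, -1} : Finset F) := by
    by_contra hcon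
    push Not at hcon
    have := (Finset.card_le_card (s := (Finset.univ : Finset F)) fun x _ => hcon x).trans
      Finset.card_le_three
    rw [Finset.card_univ] at this
    omega
  simp only [Finset.mem_insert, Finset.mem_singleton] at hb
  push Not at hb
  have hbb : b * b ≠ 1 := fun h => (mul_self_eq_one_iff.1 h).elim hb.2.1 hb.2.2
  let A : (M2 F)ˣ := unitOf (comp2 0 b) (by rw [det_comp2]; exact hb.1)
  let P : (M2 F)ˣ := unitOf !![0, 1; 1, 0] (by simp [Matrix.det_fin_two])
  refine ⟨A, P, 2 * (Fintype.card F - 1), reg_comp2_zero b hbb, comp2_symm 0 b, hpn, hlev _ _ ?_,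
    fun _ => ?_⟩
  · refine Units.ext ?_
    rw [Units.val_pow_eq_pow_val, unitOf_val, Units.val_one, pow_mul,
      show comp2 0 b ^ 2 = (-b) • (1 : M2 F) by
        ext i j
        fin_cases i <;> fin_cases j <;> simp [comp2, pow_two, Matrix.mul_apply, Fin.sum_univ_two],
      smul_pow, one_pow, FiniteField.pow_card_sub_one_eq_one _ (neg_ne_zero.2 hb.1), one_smul]
  · have hodd : Fintype.card F % 2 = 1 := FiniteField.odd_card_of_char_ne_two fun h => by
      have : CharP F 2 := h ▸ ringChar.charP F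
      exact h2 (CharP.cast_eq_zero F 2)
    obtain ⟨r, s, hrs⟩ := FiniteField.exists_root_sum_quadratic (R := F)
      (f := Polynomial.X ^ 2) (g := Polynomial.X ^ 2 + Polynomial.C b) (Polynomial.degree_X_pow 2)
      (Polynomial.degree_X_pow_add_C two_pos b) hodd
    simp only [Polynomial.eval_pow, Polynomial.eval_X, Polynomial.eval_add, Polynomial.eval_C] at hrs
    have hd1 : (!![r, s; s, -r] : M2 F).det = b := by
      simp [Matrix.det_fin_two]; linear_combination -hrs
    have hd2 : (!![s, -r; -r, -s] : M2 F).det = b := by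
      simp [Matrix.det_fin_two]; linear_combination -hrs
    let A₁ : (M2 F)ˣ := unitOf !![r, s; s, -r] (by rw [hd1]; exact hb.1)
    let B₁ : (M2 F)ˣ := unitOf !![s, -r; -r, -s] (by rw [hd2]; exact hb.1)
    have hcyc : ∀ (c d : F), c ^ 2 + (d ^ 2 + b) = 0 → ∃ x y : F,
        x * (d * x + -c * y) - y * (c * x + d * y) ≠ 0 := by
      intro c d hcd
      by_cases hd : d = 0
      · refine ⟨1, 1, fun h => hb.1 ?_⟩
        have hc : c = 0 := (mul_eq_zero.1 (show (2 : F) * c = 0 by linear_combination -h)).resolve_left h2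
        linear_combination hcd - c * hc - d * hd
      · exact ⟨1, 0, by simpa using hd⟩
    refine ⟨A₁, B₁, ?_, ?_, ?_⟩
    · obtain ⟨x, y, hxy⟩ := hcyc r s hrs
      exact isConj_comp2 _ _ _ (by simp) hd1 x y (by simpa using hxy)
    · obtain ⟨x, y, hxy⟩ := hcyc s (-r) (by linear_combination hrs)
      exact isConj_comp2 _ _ _ (by simp) hd2 x y (by simpa using hxy)
    · rw [Units.val_mul]
      refine ((Units.mul_inv_eq_iff_eq_mul B₁).2 ?_)
      show (!![r, s; s, -r] : M2 F) = rot F * !![s, -r; -r, -s]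
      ext i j
      fin_cases i <;> fin_cases j <;> simp [rot, Matrix.mul_apply, Fin.sum_univ_two]

theorem exists_covering_class (p : ℕ) [Fact p.Prime] [CharP F p] (h3 : 3 ≤ Fintype.card F) :
    ∃ x : Cfsg.PSp 2 F, ¬ p ∣ orderOf x ∧ ∀ g : Cfsg.PSp 2 F, g ≠ 1 →
      ∃ u v : Cfsg.PSp 2 F, g = (u * x * u⁻¹) * (v * x * v⁻¹) := by
  obtain ⟨A, P, n, hA, hP, hn, hpow, hrot⟩ := exists_data (F := F) p h3
  let π : SpF F →* Cfsg.PSp 2 F := QuotientGroup.mk' _
  have hscal : ∀ (g : SpF F) (a : F), (g : Mat 2 F) = a • 1 → π g = 1 := fun g a h =>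
    (QuotientGroup.eq_one_iff g).2 ((mem_center_iff g).2 ⟨a, fun v => by
      rw [h, Matrix.smul_mulVec, Matrix.one_mulVec]⟩)
  refine ⟨π (levi A), fun h => hn (h.trans (orderOf_dvd_of_pow_eq_one ?_)), fun g hg => ?_⟩
  · rw [← map_pow]
    rcases hpow with h | h
    · exact hscal _ 1 (by rw [h, one_smul])
    · exact hscal _ (-1) (by rw [Set.mem_singleton_iff.1 h, neg_smul, one_smul])
  obtain ⟨g, rfl⟩ := QuotientGroup.mk'_surjective _ g
  have hne : ∀ a : F, (g : Mat 2 F) ≠ a • 1 := fun a h => hg (hscal g a h)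
  have done : ∀ g' : SpF F, π g' = π g → (∃ u v : SpF F,
      g' = (u * levi A * u⁻¹) * (v * levi A * v⁻¹)) →
      ∃ u v : Cfsg.PSp 2 F, π g = (u * π (levi A) * u⁻¹) * (v * π (levi A) * v⁻¹) := by
    rintro g' he ⟨u, v, h⟩
    refine ⟨π u, π v, ?_⟩
    rw [← he, h]
    simp only [map_mul, map_inv]
  have h1 : ∀ g' : SpF F, HasBlock 1 g' → ∃ u v : SpF F,
      g' = (u * levi A * u⁻¹) * (v * levi A * v⁻¹) := fun g' hg' =>
    cover_block hA hP (IsConj.refl A) (IsConj.refl A) (by rwa [mul_inv_cancel, Units.val_one])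
  rcases hasBlock_cases g hne with h | h | ⟨h2, h⟩
  · exact done g rfl (h1 g h)
  · refine done (negS g) ?_ (h1 _ h)
    have : π (negS 1) = 1 := hscal _ (-1) (by
      show -((1 : SpF F) : Mat 2 F) = _
      rw [Submonoid.coe_one, neg_smul, one_smul])
    rw [show negS g = negS 1 * g from Subtype.ext (by simp [negS]), map_mul, this, one_mul]
  · obtain ⟨A₁, B₁, c1, c2, e⟩ := hrot h2
    exact done g rfl (cover_block hA hP c1 c2 (by rwa [e]))

end Cfsg.Agent.H69.PspSquare
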